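import Mathlib

/-!
A self-normalizing Sylow 2-subgroup `T` of class at most two containing the centralizer of the involutions of its
centre: the subgroups `U` of index two in `T` with normalizer outside `T`, and the uniqueness of the neighbour of `U`.
-/

set_option autoImplicit false
set_option linter.unusedSectionVars false

namespace Cfsg.Agent.NilMaxInv

open scoped commutatorElement

variable {G : Type*} [Group G]

/-- Two involutions of a finite group are conjugate under a power of their product, or some involution commutes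
with both. -/
theorem conj_or_comm {X : Type*} [Group X] [Finite X] {t r : X} (ht : t * t = 1) (hr : r * r = 1) :
    (∃ m : ℕ, (t * r) ^ m * t * ((t * r) ^ m)⁻¹ = r) ∨
      ∃ j : X, j ≠ 1 ∧ j * j = 1 ∧ Commute j t ∧ Commute j r := by
  have hinv : (t * r)⁻¹ = r * t := by
    rw [mul_inv_rev, inv_eq_of_mul_eq_one_right ht, inv_eq_of_mul_eq_one_right hr]
  have hst : SemiconjBy t (t * r) (t * r)⁻¹ := by
    show t * (t * r) = (t * r)⁻¹ * t
    rw [hinv, ← mul_assoc, ht, one_mul, mul_assoc, ht, mul_one]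
  have hsr : SemiconjBy r (t * r) (t * r)⁻¹ := by
    show r * (t * r) = (t * r)⁻¹ * r
    rw [hinv, mul_assoc]
  set c := t * r with hc
  have hn := orderOf_pos c
  obtain ⟨m, hm | hm⟩ := Nat.even_or_odd' (orderOf c)
  · right
    have hjj : c ^ m * c ^ m = 1 := by rw [← pow_add, ← two_mul, ← hm, pow_orderOf_eq_one]
    have hj' : (c⁻¹) ^ m = c ^ m := by rw [inv_pow]; exact inv_eq_of_mul_eq_one_right hjj
    refine ⟨c ^ m, pow_ne_one_of_lt_orderOf (by omega) (by omega), hjj, ?_, ?_⟩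
    · have := hst.pow_right m
      rw [hj'] at this
      exact this.eq.symm
    · have := hsr.pow_right m
      rw [hj'] at this
      exact this.eq.symm
  · left
    refine ⟨m, ?_⟩
    have h0 : t * c ^ m = (c⁻¹) ^ m * t := (hst.pow_right m).eq
    rw [inv_pow] at h0
    have h1 : c ^ m * t = t * (c ^ m)⁻¹ := by
      calc c ^ m * t = c ^ m * (t * c ^ m) * (c ^ m)⁻¹ := by group
        _ = t * (c ^ m)⁻¹ := by rw [h0]; group
    have h2 : (c ^ m)⁻¹ * (c ^ m)⁻¹ = c := by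
      have h3 : c * (c ^ m * c ^ m) = 1 := by
        rw [← pow_add, ← pow_succ', ← two_mul, ← hm, pow_orderOf_eq_one]
      rw [← mul_inv_rev]
      exact (eq_inv_of_mul_eq_one_left h3).symm
    rw [h1, mul_assoc, h2, hc, ← mul_assoc, ht, one_mul]

theorem mem_normalizer_of_conj_mem [Finite G] {X : Subgroup G} {g : G} (h : ∀ x ∈ X, g * x * g⁻¹ ∈ X) :
    g ∈ Subgroup.normalizer (X : Set G) := by
  have h1 : X.map (MulAut.conj g).toMonoidHom = X := by
    refine Subgroup.eq_of_le_of_card_ge ?_ (Subgroup.card_map_of_injective (MulAut.conj g).injective).ge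
    rintro _ ⟨x, hx, rfl⟩
    exact h x hx
  rw [Subgroup.mem_normalizer_iff]
  refine fun x => ⟨h x, fun hx => ?_⟩
  obtain ⟨y, hy, hye⟩ := h1.ge hx
  rw [show y = x from (MulAut.conj g).injective hye] at hy
  exact hy

/-- The centre of `T` as a subgroup of `G`. -/
def Zc (T : Subgroup G) : Subgroup G := T ⊓ Subgroup.centralizer (T : Set G)

theorem mem_Zc {T : Subgroup G} {z : G} : z ∈ Zc T ↔ z ∈ T ∧ ∀ s ∈ T, s * z = z * s := by
  simp [Zc, Subgroup.mem_centralizer_iff]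

/-- The hypotheses on `T`. -/
structure Loc (T : Subgroup G) : Prop where
  cls : ∀ a ∈ T, ∀ b ∈ T, ⁅a, b⁆ ∈ Zc T
  nT : Subgroup.normalizer (T : Set G) ≤ T
  nZ : Subgroup.normalizer (Zc T : Set G) ≤ T
  cOm : ∀ g : G, (∀ z ∈ Zc T, z * z = 1 → g * z = z * g) → g ∈ T

/-- A subgroup of index two of `T`, containing the centre, with normalizer outside `T`. -/
structure Rad (T U : Subgroup G) : Prop where
  zle : Zc T ≤ U
  le : U ≤ T
  bad : ¬ Subgroup.normalizer (U : Set G) ≤ T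
  two : ∀ s ∈ T, ∀ r ∈ T, s ∉ U → r ∉ U → s⁻¹ * r ∈ U

variable {T : Subgroup G}

namespace Loc

variable (L : Loc T)
include L

theorem cZ {g : G} (h : ∀ z ∈ Zc T, g * z = z * g) : g ∈ T := L.cOm g fun z hz _ => h z hz

theorem conj_mem {P : Subgroup G} (hZ : Zc T ≤ P) (hP : P ≤ T) {s x : G} (hs : s ∈ T) (hx : x ∈ P) :
    s * x * s⁻¹ ∈ P := by
  rw [show s * x * s⁻¹ = ⁅s, x⁆ * x by rw [commutatorElement_def]; group]
  exact mul_mem (hZ (L.cls s hs x (hP hx))) hx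

theorem le_normalizer [Finite G] {P : Subgroup G} (hZ : Zc T ≤ P) (hP : P ≤ T) :
    T ≤ Subgroup.normalizer (P : Set G) :=
  fun _ hs => mem_normalizer_of_conj_mem fun _ hx => L.conj_mem hZ hP hs hx

/-- A maximal subgroup above the centre with normalizer outside `T` has index two. -/
theorem exists_rad [Finite G] {P : Subgroup G} (hZ : Zc T ≤ P) (hP : P ≤ T)
    (hbad : ¬ Subgroup.normalizer (P : Set G) ≤ T) : ∃ U, Rad T U := by
  obtain ⟨U, -, ⟨hZU, hUT, hUb⟩, hmax⟩ := Finite.exists_le_maximal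
    (p := fun X : Subgroup G => Zc T ≤ X ∧ X ≤ T ∧ ¬ Subgroup.normalizer (X : Set G) ≤ T) ⟨hZ, hP, hbad⟩
  set H := Subgroup.normalizer (U : Set G) with hH
  have hTH : T ≤ H := L.le_normalizer hZU hUT
  have hsame : ∀ X : Subgroup G, U ≤ X → X ≤ T → (∀ h ∈ H, ∀ x ∈ X, h * x * h⁻¹ ∈ X) → X ≤ U :=
    fun X hUX hXT hn => hmax ⟨hZU.trans hUX, hXT,
      fun hle => hUb fun h hh => hle (mem_normalizer_of_conj_mem (hn h hh))⟩ hUX
  -- squares of elements of `T` lie in `U`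
  have hcomm : ∀ v ∈ U, v ∈ Subgroup.centralizer (U : Set G) → v * v = 1 → ∀ u ∈ U, u * v = v * u :=
    fun v _ hvc _ u hu => Subgroup.mem_centralizer_iff.1 hvc u hu
  have hsq : ∀ s ∈ T, s * s ∈ U := by
    intro s hs
    set W : Set G := {v | v ∈ U ∧ v ∈ Subgroup.centralizer (U : Set G) ∧ v * v = 1} with hW
    have hX : H ⊓ Subgroup.centralizer W ≤ U := by
      refine hsame _ (le_inf Subgroup.le_normalizer fun u hu => ?_) (fun g hg => L.cOm g fun z hz hz1 => ?_) ?_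
      · exact Subgroup.mem_centralizer_iff.2 fun v hv => (hcomm v hv.1 hv.2.1 hv.2.2 u hu).symm
      · exact (Subgroup.mem_centralizer_iff.1 hg.2 z ⟨hZU hz, Subgroup.mem_centralizer_iff.2 fun u hu =>
          (mem_Zc.1 hz).2 u (hUT hu), hz1⟩).symm
      · intro h hh x hx
        obtain ⟨hxH, hxc⟩ := Subgroup.mem_inf.1 hx
        refine Subgroup.mem_inf.2 ⟨mul_mem (mul_mem hh hxH) (inv_mem hh), Subgroup.mem_centralizer_iff.2 ?_⟩
        rintro v ⟨hvU, hvc, hv1⟩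
        have hh' : ∀ u ∈ U, h * u * h⁻¹ ∈ U := fun u hu => (Subgroup.mem_normalizer_iff.1 hh u).1 hu
        have hh'' : ∀ u ∈ U, h⁻¹ * u * h ∈ U := fun u hu => by
          simpa using (Subgroup.mem_normalizer_iff.1 (inv_mem hh) u).1 hu
        have hv' : h⁻¹ * v * h ∈ W := ⟨hh'' v hvU, Subgroup.mem_centralizer_iff.2 fun u hu => by
            have := Subgroup.mem_centralizer_iff.1 hvc _ (hh' u hu)
            calc u * (h⁻¹ * v * h) = h⁻¹ * ((h * u * h⁻¹) * v) * h := by group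
              _ = h⁻¹ * (v * (h * u * h⁻¹)) * h := by rw [this]
              _ = h⁻¹ * v * h * u := by group,
          by calc h⁻¹ * v * h * (h⁻¹ * v * h) = h⁻¹ * (v * v) * h := by group
              _ = 1 := by rw [hv1]; group⟩
        have := Subgroup.mem_centralizer_iff.1 hxc _ hv'
        calc v * (h * x * h⁻¹) = h * ((h⁻¹ * v * h) * x) * h⁻¹ := by group
          _ = h * (x * (h⁻¹ * v * h)) * h⁻¹ := by rw [this]
          _ = h * x * h⁻¹ * v := by group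
    refine hX ⟨hTH (mul_mem hs hs), Subgroup.mem_centralizer_iff.2 ?_⟩
    rintro v ⟨hvU, hvc, hv1⟩
    have hc := mem_Zc.1 (L.cls s hs v (hUT hvU))
    set c := ⁅s, v⁆ with hcdef
    have e1 : s * v * s⁻¹ = c * v := by rw [hcdef, commutatorElement_def]; group
    have hcv : v * c = c * v := hc.2 v (hUT hvU)
    have hcs : s * c = c * s := hc.2 s hs
    have hcc : c * c = 1 := by
      calc c * c = c * c * (v * v) := by rw [hv1, mul_one]
        _ = c * (c * v) * v := by group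
        _ = c * (v * c) * v := by rw [hcv]
        _ = c * v * (c * v) := by group
        _ = s * v * s⁻¹ * (s * v * s⁻¹) := by rw [e1]
        _ = s * (v * v) * s⁻¹ := by group
        _ = 1 := by rw [hv1]; group
    have e2 : s * s * v * (s * s)⁻¹ = v := by
      calc s * s * v * (s * s)⁻¹ = s * (s * v * s⁻¹) * s⁻¹ := by group
        _ = (s * c) * (v * s⁻¹) := by rw [e1]; group
        _ = c * (s * v * s⁻¹) := by rw [hcs]; group
        _ = v := by rw [e1, ← mul_assoc, hcc, one_mul]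
    calc v * (s * s) = s * s * v * (s * s)⁻¹ * (s * s) := by rw [e2]
      _ = s * s * v := by group
  -- the quotient
  let π : ↥H →* ↥H ⧸ U.subgroupOf H := QuotientGroup.mk' _
  have hπ : ∀ h : ↥H, π h = 1 ↔ (h : G) ∈ U := fun h => by
    rw [QuotientGroup.mk'_apply, QuotientGroup.eq_one_iff, Subgroup.mem_subgroupOf]
  let Tb : Subgroup (↥H ⧸ U.subgroupOf H) := (T.subgroupOf H).map π
  have hTb : ∀ h : ↥H, π h ∈ Tb ↔ (h : G) ∈ T := by
    refine fun h => ⟨?_, fun hh => ⟨h, hh, rfl⟩⟩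
    rintro ⟨k, hk, hke⟩
    have h1 : π (k⁻¹ * h) = 1 := by rw [map_mul, map_inv, hke, inv_mul_cancel]
    have h2 := mul_mem (show (k : G) ∈ T from hk) (hUT ((hπ _).1 h1))
    simpa using h2
  have hTsq : ∀ t ∈ Tb, t * t = 1 := by
    rintro _ ⟨k, hk, rfl⟩
    rw [← map_mul, hπ]
    exact hsq _ hk
  have hTab : ∀ a ∈ Tb, ∀ b ∈ Tb, a * b = b * a := by
    rintro _ ⟨a, ha, rfl⟩ _ ⟨b, hb, rfl⟩
    have : π (a * b * a⁻¹ * b⁻¹) = 1 := (hπ _).2 (hZU (L.cls _ ha _ hb))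
    rw [map_mul, map_mul, map_mul, map_inv, map_inv, mul_inv_eq_one, mul_inv_eq_iff_eq_mul] at this
    exact this
  have hself : ∀ y, (∀ s ∈ Tb, y * s * y⁻¹ ∈ Tb) → y ∈ Tb := by
    intro y hy
    obtain ⟨h, rfl⟩ := QuotientGroup.mk'_surjective _ y
    refine (hTb h).2 (L.nT (mem_normalizer_of_conj_mem fun s hs => ?_))
    have := hy (π ⟨s, hTH hs⟩) ((hTb _).2 hs)
    rw [← map_inv, ← map_mul, ← map_mul, hTb] at this
    exact this
  have hC : ∀ t ∈ Tb, t ≠ 1 → (∃ t' ∈ Tb, t' ≠ 1 ∧ t' ≠ t) → ∀ y, y * t = t * y → y ∈ Tb := by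
    intro t ht ht1 ⟨t', ht', ht'1, ht't⟩ y hy
    obtain ⟨h, rfl⟩ := QuotientGroup.mk'_surjective _ y
    set P1 := ((Subgroup.zpowers t).comap π).map H.subtype with hP1
    have hUP : U ≤ P1 := fun u hu =>
      ⟨⟨u, Subgroup.le_normalizer hu⟩, by
        rw [SetLike.mem_coe, Subgroup.mem_comap, (hπ _).2 hu]; exact one_mem _, rfl⟩
    have hPT : P1 ≤ T := by
      rintro _ ⟨k, hk, rfl⟩
      exact (hTb k).1 (Subgroup.zpowers_le.2 ht hk)
    by_contra hyT
    refine (hTb h).not.1 hyT ?_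
    by_contra hh
    have hle : P1 ≤ U := hmax ⟨hZU.trans hUP, hPT, fun hle => hh (hle (mem_normalizer_of_conj_mem ?_))⟩ hUP
    · obtain ⟨k, hk, rfl⟩ := ht
      exact ht1 ((hπ k).2 (hle ⟨k, Subgroup.mem_zpowers (π k), rfl⟩))
    · rintro _ ⟨k, hk, rfl⟩
      refine ⟨h * k * h⁻¹, ?_, rfl⟩
      rw [SetLike.mem_coe, Subgroup.mem_comap] at hk ⊢
      obtain ⟨i, hi⟩ := hk
      refine ⟨i, ?_⟩
      show t ^ i = π (h * k * h⁻¹)
      rw [map_mul, map_mul, map_inv, ← hi, ((show Commute (π h) t from hy).zpow_right i).eq, mul_inv_cancel_right]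
  have hHT : ∃ x, x ∉ Tb := by
    obtain ⟨h, hh, hhT⟩ := SetLike.not_le_iff_exists.1 hUb
    exact ⟨π ⟨h, hh⟩, fun h1 => hhT ((hTb ⟨h, hh⟩).1 h1)⟩
  refine ⟨U, hZU, hUT, hUb, fun s hs r hr hsU hrU => ?_⟩
  by_contra hsr
  set t := π ⟨s, hTH hs⟩ with ht
  set t' := π ⟨r, hTH hr⟩ with ht'
  have htT : t ∈ Tb := (hTb _).2 hs
  have ht'T : t' ∈ Tb := (hTb _).2 hr
  have ht1 : t ≠ 1 := fun h => hsU ((hπ _).1 h)
  have ht'1 : t' ≠ 1 := fun h => hrU ((hπ _).1 h)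
  have hne : t' ≠ t := fun h => by
    refine hsr ((hπ ⟨s⁻¹ * r, mul_mem (inv_mem (hTH hs)) (hTH hr)⟩).1 ?_)
    show π (⟨s, hTH hs⟩⁻¹ * ⟨r, hTH hr⟩) = 1
    rw [map_mul, map_inv, ← ht, ← ht', h, inv_mul_cancel]
  have hCt := hC t htT ht1 ⟨t', ht'T, ht'1, hne⟩
  have hCt' := hC t' ht'T ht'1 ⟨t, htT, ht1, hne.symm⟩
  obtain ⟨x, hx⟩ := hHT
  set q := x * t' * x⁻¹ with hq
  have hq2 : q * q = 1 := by
    rw [hq, show x * t' * x⁻¹ * (x * t' * x⁻¹) = x * (t' * t') * x⁻¹ by group, hTsq t' ht'T]; group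
  rcases conj_or_comm (hTsq t htT) hq2 with ⟨m, hm⟩ | ⟨j, hj1, hj2, hjt, hjq⟩
  · set w := x⁻¹ * (t * q) ^ m with hw
    have hwt : w * t * w⁻¹ = t' := by
      rw [hw, show x⁻¹ * (t * q) ^ m * t * (x⁻¹ * (t * q) ^ m)⁻¹
        = x⁻¹ * ((t * q) ^ m * t * ((t * q) ^ m)⁻¹) * x by group, hm, hq]
      group
    have hwT : w ∈ Tb := hself w fun a ha => hCt' _ (by
      rw [← hwt]
      calc w * a * w⁻¹ * (w * t * w⁻¹) = w * (a * t) * w⁻¹ := by group
        _ = w * (t * a) * w⁻¹ := by rw [hTab a ha t htT]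
        _ = w * t * w⁻¹ * (w * a * w⁻¹) := by group)
    exact hne (by rw [← hwt, hTab w hwT t htT, mul_inv_cancel_right])
  · have hjT : j ∈ Tb := hCt j hjt.eq
    have hCj : ∀ y, y * j = j * y → y ∈ Tb := by
      refine hC j hjT hj1 ?_
      by_cases h : j = t
      · exact ⟨t', ht'T, ht'1, h ▸ hne⟩
      · exact ⟨t, htT, ht1, Ne.symm h⟩
    have hqT : q ∈ Tb := hCj q hjq.eq.symm
    have hq1 : q ≠ 1 := fun h => ht'1 (by
      calc t' = x⁻¹ * q * x := by rw [hq]; group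
        _ = 1 := by rw [h]; group)
    have hCq : ∀ y, y * q = q * y → y ∈ Tb := by
      refine hC q hqT hq1 ?_
      by_cases h : q = t
      · exact ⟨t', ht'T, ht'1, h ▸ hne⟩
      · exact ⟨t, htT, ht1, Ne.symm h⟩
    exact hx (hself x fun a ha => hCq _ (by
      rw [hq]
      calc x * a * x⁻¹ * (x * t' * x⁻¹) = x * (a * t') * x⁻¹ := by group
        _ = x * (t' * a) * x⁻¹ := by rw [hTab a ha t' ht'T]
        _ = x * t' * x⁻¹ * (x * a * x⁻¹) := by group))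

end Loc

namespace Rad

variable [Finite G] (L : Loc T) {U : Subgroup G} (hU : Rad T U)
include L hU

/-- Elements of `T` commuting with the centre of `U` lie in `U`. -/
theorem cent {s : G} (hs : s ∈ T) (h : ∀ v ∈ Zc U, s * v = v * s) : s ∈ U := by
  by_contra hsU
  have hVZ : Zc U ≤ Zc T := fun v hv => mem_Zc.2 ⟨hU.le (mem_Zc.1 hv).1, fun x hx => by
    by_cases hxU : x ∈ U
    · exact (mem_Zc.1 hv).2 x hxU
    · have h2 := (mem_Zc.1 hv).2 _ (hU.two s hs x hx hsU hxU)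
      calc x * v = s * ((s⁻¹ * x) * v) := by group
        _ = s * v * (s⁻¹ * x) := by rw [h2]; group
        _ = v * x := by rw [h v hv]; group⟩
  have hZV : Zc T ≤ Zc U := fun z hz => mem_Zc.2 ⟨hU.zle hz, fun x hx => (mem_Zc.1 hz).2 x (hU.le hx)⟩
  refine hU.bad fun g hg => L.nZ (mem_normalizer_of_conj_mem fun z hz => hVZ ?_)
  obtain ⟨hzU, hzc⟩ := mem_Zc.1 (hZV hz)
  refine mem_Zc.2 ⟨(Subgroup.mem_normalizer_iff.1 hg z).1 hzU, fun x hx => ?_⟩
  have hx' : g⁻¹ * x * g ∈ U := by simpa using (Subgroup.mem_normalizer_iff.1 (inv_mem hg) x).1 hx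
  calc x * (g * z * g⁻¹) = g * ((g⁻¹ * x * g) * z) * g⁻¹ := by group
    _ = g * (z * (g⁻¹ * x * g)) * g⁻¹ := by rw [hzc _ hx']
    _ = g * z * g⁻¹ * x := by group

theorem zc_le : Zc T ≤ Zc U :=
  fun _ hz => mem_Zc.2 ⟨hU.zle hz, fun x hx => (mem_Zc.1 hz).2 x (hU.le hx)⟩

theorem conj_zc {g : G} (hg : g ∈ Subgroup.normalizer (U : Set G)) {v : G} (hv : v ∈ Zc U) :
    g * v * g⁻¹ ∈ Zc U := by
  obtain ⟨hvU, hvc⟩ := mem_Zc.1 hv
  refine mem_Zc.2 ⟨(Subgroup.mem_normalizer_iff.1 hg v).1 hvU, fun x hx => ?_⟩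
  have hx' : g⁻¹ * x * g ∈ U := by simpa using (Subgroup.mem_normalizer_iff.1 (inv_mem hg) x).1 hx
  calc x * (g * v * g⁻¹) = g * ((g⁻¹ * x * g) * v) * g⁻¹ := by group
    _ = g * (v * (g⁻¹ * x * g)) * g⁻¹ := by rw [hvc _ hx']
    _ = g * v * g⁻¹ * x := by group

/-- Some element outside `T` normalizes `U` and centralizes it modulo its centre. -/
theorem exists_outer : ∃ g ∈ Subgroup.normalizer (U : Set G), g ∉ T ∧
    ∀ x ∈ U, g * x * g⁻¹ * x⁻¹ ∈ Zc U := by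
  set N := Subgroup.normalizer (U : Set G) with hN
  let K : Subgroup G :=
    { carrier := {g | g ∈ N ∧ ∀ x ∈ U, g * x * g⁻¹ * x⁻¹ ∈ Zc U}
      one_mem' := ⟨one_mem _, fun x _ => by simp⟩
      mul_mem' := by
        rintro h k ⟨hh, hh'⟩ ⟨hk, hk'⟩
        refine ⟨mul_mem hh hk, fun x hx => ?_⟩
        have hy := (Subgroup.mem_normalizer_iff.1 hk x).1 hx
        rw [show h * k * x * (h * k)⁻¹ * x⁻¹ =
          h * (k * x * k⁻¹) * h⁻¹ * (k * x * k⁻¹)⁻¹ * (k * x * k⁻¹ * x⁻¹) by group]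
        exact mul_mem (hh' _ hy) (hk' x hx)
      inv_mem' := by
        rintro h ⟨hh, hh'⟩
        refine ⟨inv_mem hh, fun x hx => ?_⟩
        have hy : h⁻¹ * x * h ∈ U := by simpa using (Subgroup.mem_normalizer_iff.1 (inv_mem hh) x).1 hx
        rw [show h⁻¹ * x * h⁻¹⁻¹ * x⁻¹ =
          (h * (h⁻¹ * x * h) * h⁻¹ * (h⁻¹ * x * h)⁻¹)⁻¹ by group]
        exact inv_mem (hh' _ hy) }
  by_contra hno
  push Not at hno
  have hTK : T ≤ K := fun s hs => ⟨L.le_normalizer hU.zle hU.le hs,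
    fun x hx => by
      rw [← commutatorElement_def]
      exact zc_le L hU (L.cls s hs x (hU.le hx))⟩
  have hKT : K ≤ T := fun g hg => by
    by_contra hgT
    obtain ⟨x, hx, hxn⟩ := hno g hg.1 hgT
    exact hxn (hg.2 x hx)
  refine hU.bad fun g hg => L.nT (mem_normalizer_of_conj_mem fun s hs => hKT ?_)
  obtain ⟨hsN, hs'⟩ := hTK hs
  refine ⟨mul_mem (mul_mem hg hsN) (inv_mem hg), fun x hx => ?_⟩
  have hx' : g⁻¹ * x * g ∈ U := by simpa using (Subgroup.mem_normalizer_iff.1 (inv_mem hg) x).1 hx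
  rw [show g * s * g⁻¹ * x * (g * s * g⁻¹)⁻¹ * x⁻¹ =
    g * (s * (g⁻¹ * x * g) * s⁻¹ * (g⁻¹ * x * g)⁻¹) * g⁻¹ by group]
  exact conj_zc L hU hg (hs' _ hx')

/-- An element of `T` commuting with `U` and with some element outside `U` is central. -/
theorem mem_zc {v s : G} (hv : v ∈ Zc U) (hs : s ∈ T) (hsU : s ∉ U) (h : s * v = v * s) : v ∈ Zc T :=
  mem_Zc.2 ⟨hU.le (mem_Zc.1 hv).1, fun x hx => by
    by_cases hxU : x ∈ U
    · exact (mem_Zc.1 hv).2 x hxU
    · have h2 := (mem_Zc.1 hv).2 _ (hU.two s hs x hx hsU hxU)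
      calc x * v = s * ((s⁻¹ * x) * v) := by group
        _ = s * v * (s⁻¹ * x) := by rw [h2]; group
        _ = v * x := by rw [h]; group⟩

theorem symm_le {U₂ : Subgroup G} (hU₂ : Rad T U₂) (h : Zc U₂ ≤ U) : Zc U ≤ U₂ := fun v hv =>
  cent L hU₂ (hU.le (mem_Zc.1 hv).1) fun w hw => ((mem_Zc.1 hv).2 w (h hw)).symm

/-- With a neighbour the centre of `T` has index two in the centre of `U`. -/
theorem trans_of_nbr {U₂ : Subgroup G} (hU₂ : Rad T U₂) (h : ¬ Zc U₂ ≤ U) :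
    ∀ a ∈ Zc U, ∀ b ∈ Zc U, a ∉ Zc T → b ∉ Zc T → a⁻¹ * b ∈ Zc T := by
  intro a ha b hb haZ hbZ
  obtain ⟨t, ht, htU⟩ := SetLike.not_le_iff_exists.1 h
  have htT : t ∈ T := hU₂.le (mem_Zc.1 ht).1
  have hnot : ∀ v ∈ Zc U, v ∉ Zc T → v ∉ U₂ := fun v hv hvZ hv2 =>
    hvZ (mem_zc L hU hv htT htU ((mem_Zc.1 ht).2 v hv2).symm)
  have h2 := hU₂.two a (hU.le (mem_Zc.1 ha).1) b (hU.le (mem_Zc.1 hb).1) (hnot a ha haZ) (hnot b hb hbZ)
  exact mem_zc L hU (mul_mem (inv_mem ha) hb) htT htU ((mem_Zc.1 ht).2 _ h2).symm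

theorem exists_not_central : ∃ a ∈ Zc U, a ∉ Zc T := by
  by_contra hno
  push Not at hno
  obtain ⟨g, hg, hgT⟩ := SetLike.not_le_iff_exists.1 hU.bad
  exact hgT (L.nZ (mem_normalizer_of_conj_mem fun z hz => hno _ (conj_zc L hU hg (zc_le L hU hz))))

/-- Commutators of the centre of `U` outside the centre with elements outside `U` agree. -/
theorem comm_indep (htr : ∀ a ∈ Zc U, ∀ b ∈ Zc U, a ∉ Zc T → b ∉ Zc T → a⁻¹ * b ∈ Zc T)
    {a b s r : G} (ha : a ∈ Zc U) (hb : b ∈ Zc U) (haZ : a ∉ Zc T) (hbZ : b ∉ Zc T) (hs : s ∈ T) (hr : r ∈ T)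
    (hsU : s ∉ U) (hrU : r ∉ U) : ⁅a, s⁆ = ⁅b, r⁆ := by
  have hu := hU.two s hs r hr hsU hrU
  have hw := mem_Zc.1 (htr a ha b hb haZ hbZ)
  set u := s⁻¹ * r with hudef
  set w := a⁻¹ * b with hwdef
  have e1 : r = s * u := by rw [hudef]; group
  have e2 : b = a * w := by rw [hwdef]; group
  have h1 : u * a = a * u := (mem_Zc.1 ha).2 u hu
  rw [commutatorElement_def, commutatorElement_def, e1, e2]
  have h2 : w * (s * u) = (s * u) * w := (hw.2 _ (mul_mem hs (hU.le hu))).symm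
  calc a * s * a⁻¹ * s⁻¹ = a * s * (u * u⁻¹) * a⁻¹ * s⁻¹ := by group
    _ = a * s * u * (a * u)⁻¹ * s⁻¹ := by group
    _ = a * s * u * (u * a)⁻¹ * s⁻¹ := by rw [h1]
    _ = a * (s * u) * a⁻¹ * (s * u)⁻¹ := by group
    _ = a * ((s * u) * w) * w⁻¹ * a⁻¹ * (s * u)⁻¹ := by group
    _ = a * w * (s * u) * (a * w)⁻¹ * (s * u)⁻¹ := by rw [← h2]; group

end Rad

end Cfsg.Agent.NilMaxInv
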