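import Cfsg.Agent.Lib.NilMaxInv.Orbit
import Cfsg.Agent.Lib.FGStruct.NilpotentMaximal
import Cfsg.Agent.Lib.OddChar.OddTheorem

/-!
Coprime action with a nilpotent maximal invariant subgroup whose Sylow 2-subgroup has class at most two: the
group is solvable.
-/

set_option autoImplicit false
set_option linter.unusedSectionVars false
set_option linter.style.haveILetI false

namespace Cfsg.Agent.NilMaxInv

open Cfsg Cfsg.Agent
open scoped commutatorElement

universe u v

variable {G : Type u} {A : Type v} [Group G] [Finite G] [Group A] [Finite A] {φ : A →* MulAut G} {M : Subgroup G}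

/-- `M` is a maximal invariant subgroup. -/
def IsMaxInv (φ : A →* MulAut G) (M : Subgroup G) : Prop :=
  M ≠ ⊤ ∧ Inv φ M ∧ ∀ H : Subgroup G, M ≤ H → H ≠ ⊤ → Inv φ H → H = M

/-- No nontrivial invariant normal subgroup lies in `M`. -/
def CoreFree (φ : A →* MulAut G) (M : Subgroup G) : Prop :=
  ∀ X : Subgroup G, X.Normal → Inv φ X → X ≤ M → X = ⊥

theorem normalizer_eq (hm : IsMaxInv φ M) (hc : CoreFree φ M) {X : Subgroup G} (hX : Inv φ X) (hne : X ≠ ⊥)
    (hXM : X ≤ M) (hN : M ≤ Subgroup.normalizer (X : Set G)) : Subgroup.normalizer (X : Set G) = M :=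
  hm.2.2 _ hN (fun h => hne (hc X (Subgroup.normalizer_eq_top_iff.1 h) hX hXM)) hX.normalizer

/-- A Sylow subgroup of `M` is an invariant Sylow subgroup of `G`, with `M` inducing inner automorphisms. -/
theorem exists_sylow (hm : IsMaxInv φ M) (hnil : Group.IsNilpotent M) (hc : CoreFree φ M) {p : ℕ}
    [hp : Fact p.Prime] (hpM : p ∣ Nat.card M) :
    ∃ S : Sylow p G, (S : Subgroup G) ≤ M ∧ (S : Subgroup G) ≠ ⊥ ∧ Inv φ (S : Subgroup G) ∧
      M ≤ Subgroup.normalizer ((S : Subgroup G) : Set G) ∧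
      (∃ T : Sylow p M, (T : Subgroup M).map M.subtype = (S : Subgroup G)) ∧
      ∀ g ∈ M, ∃ u ∈ (S : Subgroup G), ∀ x ∈ (S : Subgroup G), g * x * g⁻¹ = u * x * u⁻¹ := by
  haveI := hnil
  obtain ⟨T⟩ : Nonempty (Sylow p M) := inferInstance
  haveI : (T : Subgroup M).Normal := inferInstance
  have hpel : ∀ x : M, (∃ k, orderOf x = p ^ k) → x ∈ (T : Subgroup M) := fun x ⟨k, hk⟩ => by
    obtain ⟨T', hT'⟩ := (IsPGroup.of_card (p := p) (n := k) (G := Subgroup.zpowers x)
      (by rw [Nat.card_zpowers, hk])).exists_le_sylow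
    haveI := Sylow.unique_of_normal T inferInstance
    rw [Subsingleton.elim T' T] at hT'
    exact hT' (Subgroup.mem_zpowers x)
  set S := (T : Subgroup M).map M.subtype with hS
  have hSM : S ≤ M := Subgroup.map_subtype_le _
  have hMN : M ≤ Subgroup.normalizer (S : Set G) := AxB.le_normalizer_map_subtype inferInstance
  have hSne : S ≠ ⊥ := by
    rw [hS, Ne, Subgroup.map_eq_bot_iff_of_injective _ M.subtype_injective]
    exact T.ne_bot_of_dvd_card hpM
  have hSinv : Inv φ S := by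
    intro a x hx
    obtain ⟨y, hy, rfl⟩ := hx
    obtain ⟨k, hk⟩ := IsPGroup.iff_orderOf.1 T.isPGroup' ⟨y, hy⟩
    rw [Subgroup.orderOf_mk] at hk
    refine ⟨⟨φ a y, hm.2.1 a y y.2⟩, hpel _ ⟨k, ?_⟩, rfl⟩
    rw [← Subgroup.orderOf_coe]
    exact (MulEquiv.orderOf_eq (φ a) (y : G)).trans ((Subgroup.orderOf_coe y).trans hk)
  obtain ⟨R, hR⟩ := (T.isPGroup'.map M.subtype).exists_le_sylow
  have hRS : (R : Subgroup G) = S := by
    by_contra hne
    have hlt : S < (R : Subgroup G) := lt_of_le_of_ne hR (Ne.symm hne)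
    have h1 := Fusion.lt_inf_normalizer (P := (R : Subgroup G)) R.isPGroup'.isNilpotent hlt
    rw [normalizer_eq hm hc hSinv hSne hSM hMN] at h1
    refine h1.not_ge fun x hx => ?_
    obtain ⟨k, hk⟩ := IsPGroup.iff_orderOf.1 R.isPGroup' ⟨x, hx.1⟩
    rw [Subgroup.orderOf_mk] at hk
    exact ⟨⟨x, hx.2⟩, hpel _ ⟨k, by rwa [Subgroup.orderOf_mk]⟩, rfl⟩
  refine ⟨R, hRS ▸ hSM, hRS ▸ hSne, hRS ▸ hSinv, hRS ▸ hMN, ⟨T, hRS.symm⟩, ?_⟩
  intro g hg
  obtain ⟨u, v, huv, -, -, hu, hvo⟩ := PBasic.exists_pPart_mul (p := p) (⟨g, hg⟩ : M)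
  refine ⟨u, hRS ▸ Subgroup.mem_map_of_mem M.subtype (hpel u hu), fun x hx => ?_⟩
  rw [hRS] at hx
  obtain ⟨y, hy, rfl⟩ := hx
  obtain ⟨j, hj⟩ := IsPGroup.iff_orderOf.1 T.isPGroup' ⟨y, hy⟩
  rw [Subgroup.orderOf_mk] at hj
  have hvy := FixedPointFreeThompson.commute_of_nilpotent hj hvo
  have h1 : (⟨g, hg⟩ : M) * y * (⟨g, hg⟩ : M)⁻¹ = u * y * u⁻¹ := by
    rw [← huv]
    calc u * v * y * (u * v)⁻¹ = u * (v * y) * v⁻¹ * u⁻¹ := by group
      _ = u * y * u⁻¹ := by rw [hvy]; group
  exact congrArg Subtype.val h1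

/-- Odd prime divisors of the order of `M` give normal complements. -/
theorem npc_odd (hm : IsMaxInv φ M) (hnil : Group.IsNilpotent M) (hc : CoreFree φ M) {p : ℕ}
    [hp : Fact p.Prime] (hp2 : p ≠ 2) (hpM : p ∣ Nat.card M) : Cfsg.HasNormalPComplement p G := by
  haveI := hnil
  obtain ⟨S, hSM, hSne, hSinv, hMS, -, -⟩ := exists_sylow hm hnil hc hpM
  have hMnpc : Cfsg.HasNormalPComplement p M := FixedPointFreeThompson.hasNormalPComplement_of_nilpotent
  refine ThompsonNPC.hasNormalPComplement_of_thompson hp2 S ?_ ?_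
  · have hJM : Cfsg.thompsonSubgroupOf p (S : Subgroup G) ≤ M :=
      (Thompson.thompsonSubgroupOf_le p (S : Subgroup G)).trans hSM
    have hMJ : M ≤ Subgroup.normalizer (Cfsg.thompsonSubgroupOf p (S : Subgroup G) : Set G) :=
      hMS.trans (Thompson.normalizer_le_normalizer_thompsonSubgroupOf p (S : Subgroup G))
    have hJinv : Inv φ (Cfsg.thompsonSubgroupOf p (S : Subgroup G)) := fun a x hx => by
      have h := Thompson.thompsonSubgroupOf_map_of_injective (p := p) (S : Subgroup G) (φ a).toMonoidHom (φ a).injective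
      rw [hSinv.map_eq a] at h
      rw [h]
      exact ⟨x, hx, rfl⟩
    rw [normalizer_eq hm hc hJinv (ThompsonNPC.thompson_ne_bot S.isPGroup' hSne) hJM hMJ]
    exact hMnpc
  · have hZN : M ≤ Subgroup.normalizer (Zc (S : Subgroup G) : Set G) :=
      hMS.trans (ThompsonNPC.normalizer_le_normalizer_center (p := p) (S : Subgroup G))
    have h1 : Subgroup.centralizer (Zc (S : Subgroup G) : Set G) ≤ M := by
      rw [← normalizer_eq hm hc hSinv.zc (ThompsonNPC.center_ne_bot S.isPGroup' hSne) (inf_le_left.trans hSM) hZN]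
      exact Subgroup.centralizer_le_normalizer _
    exact PBasic.hasNormalPComplement_of_injective (Subgroup.inclusion h1) (Subgroup.inclusion_injective _) hMnpc

/-- For even order of `M` there is a normal 2-complement. -/
theorem npc_two (hA : Odd (Nat.card A)) (hm : IsMaxInv φ M) (hnil : Group.IsNilpotent M) (hc : CoreFree φ M)
    (h2M : 2 ∣ Nat.card M) (hcl : ∀ S : Sylow 2 M, ∀ a ∈ S, ∀ b ∈ S, ∀ c ∈ S, ⁅⁅a, b⁆, c⁆ = 1) :
    Cfsg.HasNormalPComplement 2 G := by
  classical
  haveI := hnil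
  haveI : Fact (Nat.Prime 2) := ⟨Nat.prime_two⟩
  obtain ⟨S, hSM, hSne, hSinv, hMS, ⟨T, hT⟩, hinn⟩ := exists_sylow hm hnil hc h2M
  have hS := S.isPGroup'
  have hcls : ∀ a ∈ (S : Subgroup G), ∀ b ∈ (S : Subgroup G), ⁅a, b⁆ ∈ Zc (S : Subgroup G) := by
    intro a ha b hb
    refine mem_Zc.2 ⟨?_, fun c hc => ?_⟩
    · rw [commutatorElement_def]; exact mul_mem (mul_mem (mul_mem ha hb) (inv_mem ha)) (inv_mem hb)
    rw [← hT] at ha hb hc
    obtain ⟨a, ha, rfl⟩ := ha
    obtain ⟨b, hb, rfl⟩ := hb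
    obtain ⟨c, hc, rfl⟩ := hc
    have h := congrArg M.subtype (hcl T a ha b hb c hc)
    rw [map_commutatorElement, map_commutatorElement, map_one, commutatorElement_eq_one_iff_mul_comm] at h
    exact h.symm
  have hZne : Zc (S : Subgroup G) ≠ ⊥ := ThompsonNPC.center_ne_bot hS hSne
  have hZN : M ≤ Subgroup.normalizer (Zc (S : Subgroup G) : Set G) :=
    hMS.trans (ThompsonNPC.normalizer_le_normalizer_center (p := 2) (S : Subgroup G))
  have hNZ := normalizer_eq hm hc hSinv.zc hZne (inf_le_left.trans hSM) hZN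
  -- normalizers above the centre lie in `M`
  have hPN : ∀ P : Subgroup G, Zc (S : Subgroup G) ≤ P → P ≤ (S : Subgroup G) →
      Subgroup.normalizer (P : Set G) ≤ M := by
    intro P hZP hPS
    by_cases hodd : ∃ q : ℕ, q.Prime ∧ q ≠ 2 ∧ q ∣ Nat.card M
    · obtain ⟨q, hq, hq2, hqM⟩ := hodd
      haveI := Fact.mk hq
      obtain ⟨R, hRM, hRne, hRinv, hMR, -, -⟩ := exists_sylow hm hnil hc hqM
      rw [← normalizer_eq hm hc hRinv hRne hRM hMR]
      intro g hg
      refine mem_normalizer_of_conj_mem fun y hy => ?_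
      have hyM : g * y * g⁻¹ ∈ M := by
        refine hNZ.le (Subgroup.centralizer_le_normalizer _ (Subgroup.mem_centralizer_iff.2 fun z hz => ?_))
        have hzg : g⁻¹ * z * g ∈ P := by simpa using (Subgroup.mem_normalizer_iff.1 (inv_mem hg) z).1 (hZP hz)
        obtain ⟨i, hi⟩ := IsPGroup.iff_orderOf.1 hS ⟨_, hPS hzg⟩
        obtain ⟨k, hk⟩ := IsPGroup.iff_orderOf.1 R.isPGroup' ⟨y, hy⟩
        rw [Subgroup.orderOf_mk] at hi hk
        have h1 : (⟨y, hRM hy⟩ : M) * ⟨_, hSM (hPS hzg)⟩ = ⟨_, hSM (hPS hzg)⟩ * ⟨y, hRM hy⟩ :=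
          FixedPointFreeThompson.commute_of_nilpotent (p := 2) (k := i) (by rw [Subgroup.orderOf_mk]; exact hi)
            (by rw [Subgroup.orderOf_mk, hk]; exact Nat.Coprime.pow_left k ((Nat.coprime_primes hq Nat.prime_two).2 hq2))
        have h2 : y * (g⁻¹ * z * g) = g⁻¹ * z * g * y := congrArg Subtype.val h1
        calc z * (g * y * g⁻¹) = g * (g⁻¹ * z * g * y) * g⁻¹ := by group
          _ = g * y * g⁻¹ * z := by rw [← h2]; group
      -- a `q`-element of `M` lies in the Sylow subgroup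
      have hK : IsPGroup q (Subgroup.zpowers (g * y * g⁻¹)) := by
        obtain ⟨k, hk⟩ := IsPGroup.iff_orderOf.1 R.isPGroup' ⟨y, hy⟩
        rw [Subgroup.orderOf_mk] at hk
        refine IsPGroup.of_card (n := k) ?_
        rw [Nat.card_zpowers, ← MulAut.conj_apply, MulEquiv.orderOf_eq, hk]
      have hKR : Subgroup.zpowers (g * y * g⁻¹) ≤ Subgroup.normalizer ((R : Subgroup G) : Set G) :=
        (Subgroup.zpowers_le.2 hyM).trans hMR
      have hsup : IsPGroup q ↥((R : Subgroup G) ⊔ Subgroup.zpowers (g * y * g⁻¹)) :=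
        R.isPGroup'.to_sup_of_normal_left' hK hKR
      rw [← R.is_maximal' hsup le_sup_left]
      exact Subgroup.mem_sup_right (Subgroup.mem_zpowers _)
    · have hM2 : IsPGroup 2 M := by
        refine IsPGroup.of_card (Nat.eq_prime_pow_of_unique_prime_dvd Nat.card_pos.ne' fun {d} hd hdM => ?_)
        by_contra hd2
        exact hodd ⟨d, hd, hd2, hdM⟩
      have hMeq : (S : Subgroup G) = M := (S.is_maximal' hM2 hSM).symm
      rw [← hMeq]
      refine normalizer_le φ hA ⟨hcls, ?_, ?_, ?_⟩ hSinv hZne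
        (fun X hX hXne hXS hXN => (normalizer_eq hm hc hX hXne (hXS.trans hSM) (hMeq ▸ hXN)).le.trans hMeq.ge)
        hZP hPS
      · exact (normalizer_eq hm hc hSinv hSne hSM hMS).le.trans hMeq.ge
      · exact hNZ.le.trans hMeq.ge
      · -- the involutions of the centre
        intro g hg
        let W : Subgroup G :=
          { carrier := {z | z ∈ Zc (S : Subgroup G) ∧ z * z = 1}
            one_mem' := ⟨one_mem _, mul_one 1⟩
            mul_mem' := by
              rintro a b ⟨ha, ha'⟩ ⟨hb, hb'⟩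
              refine ⟨mul_mem ha hb, ?_⟩
              have hab : a * b = b * a := (mem_Zc.1 hb).2 a (mem_Zc.1 ha).1
              calc a * b * (a * b) = a * (b * a) * b := by group
                _ = a * (a * b) * b := by rw [hab]
                _ = a * a * (b * b) := by group
                _ = 1 := by rw [ha', hb', one_mul]
            inv_mem' := by
              rintro a ⟨ha, ha'⟩
              exact ⟨inv_mem ha, by rw [← mul_inv_rev, ha', inv_one]⟩ }
        have hWinv : Inv φ W := fun a z hz => ⟨hSinv.zc a z hz.1, by rw [← map_mul, hz.2, map_one]⟩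
        have hWne : W ≠ ⊥ := by
          intro h
          refine hZne ((Subgroup.eq_bot_iff_forall _).2 fun z hz => ?_)
          obtain ⟨i, hi⟩ := IsPGroup.iff_orderOf.1 hS ⟨z, (mem_Zc.1 hz).1⟩
          rw [Subgroup.orderOf_mk] at hi
          rcases Nat.eq_zero_or_pos i with rfl | hi0
          · rwa [pow_zero, orderOf_eq_one_iff] at hi
          exfalso
          have hw : z ^ (2 ^ (i - 1)) ∈ W := ⟨pow_mem hz _, by
            rw [← pow_add, ← two_mul, ← pow_succ', Nat.sub_add_cancel hi0, ← hi, pow_orderOf_eq_one]⟩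
          rw [h, Subgroup.mem_bot] at hw
          have hdvd := orderOf_dvd_of_pow_eq_one hw
          rw [hi, Nat.pow_dvd_pow_iff_le_right (by norm_num)] at hdvd
          omega
        have hWS : W ≤ (S : Subgroup G) := fun z hz => (mem_Zc.1 hz.1).1
        have hWN : M ≤ Subgroup.normalizer (W : Set G) := fun s hs => mem_normalizer_of_conj_mem fun z hz => by
          rw [(mem_Zc.1 hz.1).2 s (hMeq.ge hs), mul_inv_cancel_right]
          exact hz
        exact hMeq.ge ((normalizer_eq hm hc hWinv hWne (hWS.trans hSM) hWN).le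
          (Subgroup.centralizer_le_normalizer _ (Subgroup.mem_centralizer_iff.2 fun z hz => (hg z hz.1 hz.2).symm)))
  -- fusion in `S` is inner
  have hF : groupFusionSystem (S : Subgroup G) ≤ innerFusionSystem (S : Subgroup G) := by
    refine FusionSys.alperin_centric_radical hS (FusionSys.groupFusionSystem_saturated S) fun P hP => ?_
    have hPS : P ≤ (S : Subgroup G) := by
      rcases hP with h | h
      · exact h.le
      · exact h.1.1
    have hZP : Zc (S : Subgroup G) ≤ P := by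
      rcases hP with h | h
      · exact h ▸ inf_le_left
      · exact fun z hz => FusionSys.mem_of_centralizes h.1 (mem_Zc.1 hz).1
          fun q hq => (mem_Zc.1 hz).2 q (hPS hq)
    intro α hα
    obtain ⟨-, -, g, hg⟩ := (FusionSys.mem_autGroup_iff _ hPS α).1 hα
    have hgN : g ∈ Subgroup.normalizer (P : Set G) :=
      mem_normalizer_of_conj_mem fun x hx => by rw [← hg ⟨x, hx⟩]; exact (α ⟨x, hx⟩).2
    obtain ⟨u, hu, hux⟩ := hinn g (hPN P hZP hPS hgN)
    refine (FusionSys.mem_autGroup_iff _ hPS α).2 ⟨hPS, u, hu, fun x => ?_⟩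
    exact (hg x).trans (hux x (hPS x.2))
  refine Fusion.hasNormalPComplement_of_controlsFusion S fun x hx g hgx => ?_
  have hmem : conjHom (Subgroup.zpowers x) g ∈ (groupFusionSystem (S : Subgroup G)).Hom (Subgroup.zpowers x) := by
    refine ⟨Subgroup.zpowers_le.2 hx, ?_, g, fun y => rfl⟩
    rintro ⟨_, k, rfl⟩
    show g * x ^ k * g⁻¹ ∈ (S : Subgroup G)
    rw [← conj_zpow]
    exact zpow_mem hgx k
  obtain ⟨-, v, hv, hvx⟩ := hF _ hmem
  exact ⟨v, hv, (hvx ⟨x, Subgroup.mem_zpowers x⟩).symm⟩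

end Cfsg.Agent.NilMaxInv
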