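import Cfsg.Agent.Lib.NilMaxInv.Local

/-!
A subgroup of index two with normalizer outside `T` has at most one neighbour: another such subgroup whose
centre it does not contain.
-/

set_option autoImplicit false
set_option linter.unusedSectionVars false

namespace Cfsg.Agent.NilMaxInv

open scoped commutatorElement

variable {G : Type*} [Group G] [Finite G] {T : Subgroup G}

namespace Rad

/-- The centre of `T` has index two in the centre of `U`. -/
def Trans (T U : Subgroup G) : Prop := ∀ a ∈ Zc U, ∀ b ∈ Zc U, a ∉ Zc T → b ∉ Zc T → a⁻¹ * b ∈ Zc T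

variable (L : Loc T) {U : Subgroup G} (hU : Rad T U) (htr : Trans T U)
  {a s : G} (ha : a ∈ Zc U) (haZ : a ∉ Zc T) (hs : s ∈ T) (hsU : s ∉ U)
include L hU htr ha haZ hs hsU

theorem z_mem : ⁅a, s⁆ ∈ Zc T := L.cls a (hU.le (mem_Zc.1 ha).1) s hs

theorem z_ne_one : ⁅a, s⁆ ≠ 1 := fun h =>
  haZ (mem_zc L hU ha hs hsU (commutatorElement_eq_one_iff_mul_comm.1 h).symm)

theorem z_sq : ⁅a, s⁆ * ⁅a, s⁆ = 1 := by
  have h2 : a⁻¹⁻¹ * a ∈ Zc T := htr a⁻¹ (inv_mem ha) a ha (fun h => haZ (by simpa using inv_mem h)) haZ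
  rw [inv_inv] at h2
  have hc : s * (a * a) = a * a * s := (mem_Zc.1 h2).2 s hs
  have hz := (mem_Zc.1 (z_mem L hU htr ha haZ hs hsU)).2 a (hU.le (mem_Zc.1 ha).1)
  set z := ⁅a, s⁆ with hz'
  calc z * z = a * z * a⁻¹ * z := by rw [hz, mul_inv_cancel_right]
    _ = a * a * s * (a * a)⁻¹ * s⁻¹ := by rw [hz', commutatorElement_def]; group
    _ = 1 := by rw [← hc]; group

theorem z_inv : ⁅a, s⁆⁻¹ = ⁅a, s⁆ := inv_eq_of_mul_eq_one_right (z_sq L hU htr ha haZ hs hsU)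

theorem comm_cases {v r : G} (hv : v ∈ Zc U) (hr : r ∈ T) : ⁅v, r⁆ = 1 ∨ ⁅v, r⁆ = ⁅a, s⁆ := by
  by_cases h : v ∈ Zc T
  · exact Or.inl (commutatorElement_eq_one_iff_mul_comm.2 ((mem_Zc.1 h).2 r hr).symm)
  by_cases h' : r ∈ U
  · exact Or.inl (commutatorElement_eq_one_iff_mul_comm.2 ((mem_Zc.1 hv).2 r h').symm)
  exact Or.inr (comm_indep L hU htr hv ha h haZ hr hs h' hsU)

theorem conj_cases {v r : G} (hv : v ∈ Zc U) (hr : r ∈ T) :
    r * v * r⁻¹ = v ∨ r * v * r⁻¹ = v * ⁅a, s⁆ := by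
  have e : r * v * r⁻¹ = v * ⁅v⁻¹, r⁆ := by rw [commutatorElement_def]; group
  rcases comm_cases L hU htr ha haZ hs hsU (inv_mem hv) hr with h | h <;> rw [e, h]
  · exact Or.inl (mul_one v)
  · exact Or.inr rfl

/-- No conjugate of the commutator under an outer element of the normalizer is central. -/
theorem conj_z_not_mem {g : G} (hg : g ∈ Subgroup.normalizer (U : Set G)) (hgT : g ∉ T) :
    g⁻¹ * ⁅a, s⁆ * g ∉ Zc T := by
  intro hzg
  set z := ⁅a, s⁆ with hz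
  set H := Subgroup.normalizer (U : Set G) with hH
  have hTH : T ≤ H := L.le_normalizer hU.zle hU.le
  set s' := g * s * g⁻¹ with hs'
  have hs'H : s' ∈ H := mul_mem (mul_mem hg (hTH hs)) (inv_mem hg)
  have hzs : Commute z s := ((mem_Zc.1 (z_mem L hU htr ha haZ hs hsU)).2 s hs).symm
  have hzs' : Commute z s' := by
    show z * s' = s' * z
    calc z * s' = g * ((g⁻¹ * z * g) * s) * g⁻¹ := by rw [hs']; group
      _ = g * (s * (g⁻¹ * z * g)) * g⁻¹ := by rw [(mem_Zc.1 hzg).2 s hs]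
      _ = s' * z := by rw [hs']; group
  let π : ↥H →* ↥H ⧸ U.subgroupOf H := QuotientGroup.mk' _
  have hπ : ∀ h : ↥H, π h = 1 ↔ (h : G) ∈ U := fun h => by
    rw [QuotientGroup.mk'_apply, QuotientGroup.eq_one_iff, Subgroup.mem_subgroupOf]
  set t := π ⟨s, hTH hs⟩ with ht
  set r := π ⟨s', hs'H⟩ with hr
  have hss : s * s ∈ U := by
    have := hU.two s hs s⁻¹ (inv_mem hs) hsU fun h => hsU (by simpa using inv_mem h)
    simpa using inv_mem this
  have ht2 : t * t = 1 := by rw [ht, ← map_mul, hπ]; exact hss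
  have hr2 : r * r = 1 := by
    rw [hr, ← map_mul, hπ]
    show s' * s' ∈ U
    rw [show s' * s' = g * (s * s) * g⁻¹ by rw [hs']; group]
    exact (Subgroup.mem_normalizer_iff.1 hg _).1 hss
  -- an element whose conjugation sends `s` into `T` normalizes `T`
  have hmove : ∀ h ∈ H, h * s * h⁻¹ ∈ T → h ∈ T := by
    intro h hh hhs
    refine L.nT (mem_normalizer_of_conj_mem fun x hx => ?_)
    by_cases hxU : x ∈ U
    · exact hU.le ((Subgroup.mem_normalizer_iff.1 hh x).1 hxU)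
    · have := mul_mem hhs (hU.le ((Subgroup.mem_normalizer_iff.1 hh _).1 (hU.two s hs x hx hsU hxU)))
      rwa [show h * s * h⁻¹ * (h * (s⁻¹ * x) * h⁻¹) = h * x * h⁻¹ by group] at this
  have hcommT : ∀ h : ↥H, π h * t = t * π h → (h : G) ∈ T := by
    intro h hc
    refine hmove h h.2 ?_
    have h1 : π (h * ⟨s, hTH hs⟩ * h⁻¹ * ⟨s, hTH hs⟩⁻¹) = 1 := by
      rw [map_mul, map_mul, map_mul, map_inv, map_inv, ← ht, hc, mul_inv_cancel_right, mul_inv_cancel]
    have h2 : (h : G) * s * (h : G)⁻¹ * s⁻¹ ∈ U := (hπ _).1 h1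
    simpa using mul_mem (hU.le h2) hs
  have hr1 : r * t ≠ t * r := fun h => hgT (hmove g hg (hcommT ⟨s', hs'H⟩ h))
  rcases conj_or_comm ht2 hr2 with ⟨m, hm⟩ | ⟨j, hj1, -, hjt, hjr⟩
  · set k : ↥H := (⟨s, hTH hs⟩ * ⟨s', hs'H⟩) with hk
    have hπk : π k = t * r := by rw [hk, map_mul]
    set h := k ^ m with hh
    have hu : π (⟨s', hs'H⟩⁻¹ * (h * ⟨s, hTH hs⟩ * h⁻¹)) = 1 := by
      rw [map_mul, map_mul, map_mul, map_inv, map_inv, hh, map_pow, hπk, ← ht, hm, ← hr, inv_mul_cancel]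
    have hu' : s'⁻¹ * ((h : G) * s * (h : G)⁻¹) ∈ U := (hπ _).1 hu
    set u := s'⁻¹ * ((h : G) * s * (h : G)⁻¹) with hudef
    have hzh : Commute z (h : G) := by
      rw [hh, Subgroup.coe_pow]; exact (hzs.mul_right hzs').pow_right m
    set a' := (h : G) * a * (h : G)⁻¹ with ha'
    have ha'U : a' ∈ Zc U := conj_zc L hU h.2 ha
    have hua : u * a' = a' * u := (mem_Zc.1 ha'U).2 u hu'
    have e1 : z = g * ⁅g⁻¹ * a' * g, s⁆ * g⁻¹ := by
      calc z = (h : G) * z * (h : G)⁻¹ := by rw [← hzh.eq, mul_inv_cancel_right]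
        _ = ⁅a', (h : G) * s * (h : G)⁻¹⁆ := by
          rw [hz, commutatorElement_def, commutatorElement_def, ha']; group
        _ = a' * s' * (u * a'⁻¹ * u⁻¹) * s'⁻¹ := by
          rw [commutatorElement_def, show (h : G) * s * (h : G)⁻¹ = s' * u by rw [hudef]; group]
          group
        _ = a' * s' * a'⁻¹ * s'⁻¹ := by
          rw [show u * a'⁻¹ * u⁻¹ = (u * a' * u⁻¹)⁻¹ by group, hua, mul_inv_cancel_right]
        _ = g * ⁅g⁻¹ * a' * g, s⁆ * g⁻¹ := by rw [commutatorElement_def, hs']; group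
    have hga : g⁻¹ * a' * g ∈ Zc U := by simpa using conj_zc L hU (inv_mem hg) ha'U
    have hzz : g * z * g⁻¹ = z := by
      rcases comm_cases L hU htr ha haZ hs hsU hga hs with h' | h'
      · rw [h', mul_one, mul_inv_cancel] at e1; exact absurd e1 (z_ne_one L hU htr ha haZ hs hsU)
      · rw [h'] at e1; exact e1.symm
    have hc1 : ∀ v ∈ Zc U, s' * v * s'⁻¹ = v ∨ s' * v * s'⁻¹ = v * z := by
      intro v hv
      have hgv : g⁻¹ * v * g ∈ Zc U := by simpa using conj_zc L hU (inv_mem hg) hv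
      have e : s' * v * s'⁻¹ = g * (s * (g⁻¹ * v * g) * s⁻¹) * g⁻¹ := by rw [hs']; group
      rcases conj_cases L hU htr ha haZ hs hsU hgv hs with h' | h' <;> rw [e, h']
      · left; group
      · right
        calc g * (g⁻¹ * v * g * z) * g⁻¹ = v * (g * z * g⁻¹) := by group
          _ = v * z := by rw [hzz]
    have hzz2 := z_sq L hU htr ha haZ hs hsU
    have hkv : ∀ v ∈ Zc U, (k : G) * v * (k : G)⁻¹ = v ∨ (k : G) * v * (k : G)⁻¹ = v * z := by
      intro v hv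
      have hk' : (k : G) = s * s' := rfl
      rw [hk', show s * s' * v * (s * s')⁻¹ = s * (s' * v * s'⁻¹) * s⁻¹ by group]
      rcases hc1 v hv with h' | h' <;> rw [h']
      · exact conj_cases L hU htr ha haZ hs hsU hv hs
      · rw [show s * (v * z) * s⁻¹ = s * v * s⁻¹ * (s * z * s⁻¹) by group, ← hzs.eq, mul_inv_cancel_right]
        rcases conj_cases L hU htr ha haZ hs hsU hv hs with h'' | h'' <;> rw [h'']
        · exact Or.inr rfl
        · exact Or.inl (by rw [mul_assoc, hzz2, mul_one])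
    have hzk : Commute z (k : G) := hzs.mul_right hzs'
    have hkk : ∀ v ∈ Zc U, (k : G) * k * v = v * ((k : G) * k) := by
      intro v hv
      have e : (k : G) * k * v * ((k : G) * k)⁻¹ = v := by
        rw [show (k : G) * k * v * ((k : G) * k)⁻¹ = (k : G) * ((k : G) * v * (k : G)⁻¹) * (k : G)⁻¹ by group]
        rcases hkv v hv with h' | h'
        · rw [h', h']
        · rw [h', show (k : G) * (v * z) * (k : G)⁻¹ = (k : G) * v * (k : G)⁻¹ * ((k : G) * z * (k : G)⁻¹) by group,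
            ← hzk.eq, mul_inv_cancel_right, h', mul_assoc, hzz2, mul_one]
      calc (k : G) * k * v = (k : G) * k * v * ((k : G) * k)⁻¹ * ((k : G) * k) := by group
        _ = v * ((k : G) * k) := by rw [e]
    have hkT : (k : G) * k ∈ T := L.cZ fun w hw => hkk w (zc_le L hU hw)
    have htr2 : t * r * (t * r) = 1 := by rw [← hπk, ← map_mul, hπ]; exact cent L hU hkT hkk
    refine hr1 ?_
    calc r * t = t * t * (r * t) * (r * r) := by rw [ht2, hr2, one_mul, mul_one]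
      _ = t * (t * r * (t * r)) * r := by group
      _ = t * r := by rw [htr2, mul_one]
  · obtain ⟨h, rfl⟩ := QuotientGroup.mk'_surjective _ j
    have hhT : (h : G) ∈ T := hcommT h hjt.eq
    have hhU : (h : G) ∉ U := fun h' => hj1 ((hπ h).2 h')
    have : π h = t := by
      have h1 : π (⟨s, hTH hs⟩⁻¹ * h) = 1 := (hπ _).2 (hU.two s hs h hhT hsU hhU)
      rw [map_mul, map_inv, inv_mul_eq_one] at h1
      exact h1.symm
    exact hr1 (this ▸ hjr.eq).symm

/-- The commutator is not a square in the centre of `U`. -/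
theorem sq_ne_z {v : G} (hv : v ∈ Zc U) : v * v ≠ ⁅a, s⁆ := by
  intro h
  obtain ⟨g, hg, hgT⟩ := SetLike.not_le_iff_exists.1 hU.bad
  have hw : g⁻¹ * v * g ∈ Zc U := by simpa using conj_zc L hU (inv_mem hg) hv
  refine conj_z_not_mem L hU htr ha haZ hs hsU hg hgT ?_
  rw [← h, show g⁻¹ * (v * v) * g = (g⁻¹ * v * g) * (g⁻¹ * v * g) by group]
  by_cases hwZ : g⁻¹ * v * g ∈ Zc T
  · exact mul_mem hwZ hwZ
  · have := htr _ (inv_mem hw) _ hw (fun h' => hwZ (by simpa using inv_mem h')) hwZ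
    simpa using this

/-- An element of `U` with all commutators in the commutator group lies in the centre of `U`. -/
theorem mem_of_comm {u : G} (hu : u ∈ U) (h : ∀ x ∈ U, ⁅x, u⁆ = 1 ∨ ⁅x, u⁆ = ⁅a, s⁆) : u ∈ Zc U := by
  refine mem_Zc.2 ⟨hu, fun x hx => ?_⟩
  rcases h x hx with h' | h'
  · exact commutatorElement_eq_one_iff_mul_comm.1 h'
  exfalso
  obtain ⟨g, hg, hgT, hg'⟩ := exists_outer L hU
  set v := g * u * g⁻¹ * u⁻¹ with hv
  set y := g⁻¹ * x * g with hy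
  have hyU : y ∈ U := by simpa [hy] using (Subgroup.mem_normalizer_iff.1 (inv_mem hg) x).1 hx
  have hvx : x * v = v * x := (mem_Zc.1 (hg' u hu)).2 x hx
  have hvu : u * v = v * u := (mem_Zc.1 (hg' u hu)).2 u hu
  have hvc : ⁅x, u⁆ * v = v * ⁅x, u⁆ := by
    rw [commutatorElement_def]
    exact (mem_Zc.1 (hg' u hu)).2 _ (mul_mem (mul_mem (mul_mem hx hu) (inv_mem hx)) (inv_mem hu))
  have e : g * ⁅y, u⁆ * g⁻¹ = ⁅x, u⁆ := by
    calc g * ⁅y, u⁆ * g⁻¹ = x * (v * u) * x⁻¹ * (v * u)⁻¹ := by rw [commutatorElement_def, hy, hv]; group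
      _ = v * ⁅x, u⁆ * v⁻¹ := by rw [← mul_assoc x, hvx, commutatorElement_def]; group
      _ = ⁅x, u⁆ := by rw [← hvc, mul_inv_cancel_right]
  rw [h'] at e
  rcases h y hyU with h'' | h''
  · rw [h'', mul_one, mul_inv_cancel] at e
    exact z_ne_one L hU htr ha haZ hs hsU e.symm
  · rw [h''] at e
    refine conj_z_not_mem L hU htr ha haZ hs hsU hg hgT ?_
    nth_rewrite 1 [← e]
    rw [show g⁻¹ * (g * ⁅a, s⁆ * g⁻¹) * g = ⁅a, s⁆ by group]
    exact z_mem L hU htr ha haZ hs hsU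

/-- A neighbour is the centralizer of an involution outside `U`. -/
theorem exists_invol {U₂ : Subgroup G} (hU₂ : Rad T U₂) (h : ¬ Zc U₂ ≤ U) :
    ∃ t ∈ T, t ∉ U ∧ t * t = 1 ∧ (∀ x ∈ T, x ∈ U₂ ↔ x * t = t * x) ∧
      ∀ x ∈ T, ⁅x, t⁆ = 1 ∨ ⁅x, t⁆ = ⁅a, s⁆ := by
  obtain ⟨t₀, ht₀, ht₀U⟩ := SetLike.not_le_iff_exists.1 h
  have ht₀T : t₀ ∈ T := hU₂.le (mem_Zc.1 ht₀).1
  have ht₀Z : t₀ ∉ Zc T := fun h' => ht₀U (hU.zle h')
  have haT : a ∈ T := hU.le (mem_Zc.1 ha).1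
  have haU₂ : a ∉ U₂ := fun h' => haZ (mem_zc L hU ha ht₀T ht₀U ((mem_Zc.1 ht₀).2 a h').symm)
  have h' : ¬ Zc U ≤ U₂ := fun h'' => h (symm_le L hU₂ hU h'')
  have htr₂ : Trans T U₂ := trans_of_nbr L hU₂ hU h'
  have hz2 : ⁅t₀, a⁆ = ⁅a, s⁆ := by
    rw [← commutatorElement_inv, comm_indep L hU htr ha ha haZ haZ ht₀T hs ht₀U hsU,
      z_inv L hU htr ha haZ hs hsU]
  obtain ⟨g, hg, hgT⟩ := SetLike.not_le_iff_exists.1 hU₂.bad
  have hnZ := conj_z_not_mem L hU₂ htr₂ ht₀ ht₀Z haT haU₂ hg hgT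
  rw [hz2] at hnZ
  set t := g⁻¹ * ⁅a, s⁆ * g with htdef
  have htV : t ∈ Zc U₂ := by
    simpa using conj_zc L hU₂ (inv_mem hg) (zc_le L hU₂ (z_mem L hU htr ha haZ hs hsU))
  have htT : t ∈ T := hU₂.le (mem_Zc.1 htV).1
  refine ⟨t, htT, fun htU => ?_, ?_, fun x hx => ⟨(mem_Zc.1 htV).2 x, fun hc => ?_⟩, fun x hx => ?_⟩
  · exact hnZ (mem_zc L hU₂ htV haT haU₂ ((mem_Zc.1 ha).2 t htU).symm)
  · rw [htdef, show g⁻¹ * ⁅a, s⁆ * g * (g⁻¹ * ⁅a, s⁆ * g) = g⁻¹ * (⁅a, s⁆ * ⁅a, s⁆) * g by group,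
      z_sq L hU htr ha haZ hs hsU]
    group
  · by_contra hxU
    exact hnZ (mem_zc L hU₂ htV hx hxU hc)
  · rw [← commutatorElement_inv, ← hz2]
    rcases comm_cases L hU₂ htr₂ ht₀ ht₀Z haT haU₂ htV hx with h'' | h''
    · exact Or.inl (by rw [h'', inv_one])
    · exact Or.inr (by rw [h'', z_inv L hU₂ htr₂ ht₀ ht₀Z haT haU₂])

end Rad

/-- The neighbour is unique. -/
theorem nbr_unique (L : Loc T) {U U₂ U₃ : Subgroup G} (hU : Rad T U) (hU₂ : Rad T U₂) (hU₃ : Rad T U₃)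
    (h₂ : ¬ Zc U₂ ≤ U) (h₃ : ¬ Zc U₃ ≤ U) : U₂ = U₃ := by
  have htr : Rad.Trans T U := Rad.trans_of_nbr L hU hU₂ h₂
  obtain ⟨a, ha, haZ⟩ := Rad.exists_not_central L hU
  obtain ⟨s, hs, hsU⟩ := SetLike.not_le_iff_exists.1 h₂
  have hsT : s ∈ T := hU₂.le (mem_Zc.1 hs).1
  obtain ⟨t, htT, htU, ht2, htiff, htc⟩ := Rad.exists_invol L hU htr ha haZ hsT hsU hU₂ h₂
  obtain ⟨t', ht'T, ht'U, ht'2, ht'iff, ht'c⟩ := Rad.exists_invol L hU htr ha haZ hsT hsU hU₃ h₃
  have hti : t⁻¹ = t := inv_eq_of_mul_eq_one_right ht2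
  have ht'i : t'⁻¹ = t' := inv_eq_of_mul_eq_one_right ht'2
  set z := ⁅a, s⁆ with hz
  have hzZ := mem_Zc.1 (Rad.z_mem L hU htr ha haZ hsT hsU)
  set u := t⁻¹ * t' with hudef
  have hu : u ∈ U := hU.two t htT t' ht'T htU ht'U
  have hz2 := Rad.z_sq L hU htr ha haZ hsT hsU
  have huV : u ∈ Zc U := by
    refine Rad.mem_of_comm L hU htr ha haZ hsT hsU hu fun x hx => ?_
    have hxT := hU.le hx
    have e : ⁅x, u⁆ = ⁅x, t⁆ * (t * ⁅x, t'⁆ * t⁻¹) := by
      rw [commutatorElement_def, commutatorElement_def, commutatorElement_def, show u = t * t' by rw [hudef, hti]]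
      group
    rw [e]
    rcases ht'c x hxT with h | h <;> rw [h]
    · rw [mul_one, mul_inv_cancel, mul_one]; exact htc x hxT
    · rw [hzZ.2 t htT, mul_inv_cancel_right]
      rcases htc x hxT with h' | h' <;> rw [h']
      · exact Or.inr (one_mul z)
      · exact Or.inl hz2
  have ht' : t' = t * u := by rw [hudef]; group
  by_cases huZ : u ∈ Zc T
  · have hux := (mem_Zc.1 huZ).2
    ext x
    constructor
    · intro hx
      have hxT := hU₂.le hx
      refine (ht'iff x hxT).2 ?_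
      rw [ht', ← mul_assoc, (htiff x hxT).1 hx, mul_assoc, hux x hxT, ← mul_assoc]
    · intro hx
      have hxT := hU₃.le hx
      refine (htiff x hxT).2 ?_
      have h1 := (ht'iff x hxT).1 hx
      rw [ht'] at h1
      calc x * t = x * (t * u) * u⁻¹ := by group
        _ = t * (u * x) * u⁻¹ := by rw [h1]; group
        _ = t * x := by rw [← hux x hxT]; group
  · exfalso
    refine Rad.sq_ne_z L hU htr ha haZ hsT hsU huV ?_
    have e1 : t * u⁻¹ * t = u := by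
      have h1 : t * u * (t * u) = 1 := by rw [← ht']; exact ht'2
      have h2 : t * u * t = u⁻¹ := eq_inv_of_mul_eq_one_left (by simpa [mul_assoc] using h1)
      have h3 : (t * u * t)⁻¹ = u := by rw [h2, inv_inv]
      rwa [mul_inv_rev, mul_inv_rev, hti, ← mul_assoc] at h3
    rw [← Rad.comm_indep L hU htr huV ha huZ haZ htT hsT htU hsU, commutatorElement_def, hti]
    calc u * u = u * (t * u⁻¹ * t) := by rw [e1]
      _ = u * t * u⁻¹ * t := by group

end Cfsg.Agent.NilMaxInv
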