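import Cfsg.Agent.Lib.NilMaxInv.Nbr

/-!
A group of odd order acting with `T` invariant leaves no room for subgroups of index two with normalizer outside
`T`: in an orbit of such subgroups the neighbour map would be an involution without fixed points.
-/

set_option autoImplicit false
set_option linter.unusedSectionVars false
set_option linter.style.haveILetI false

namespace Cfsg.Agent.NilMaxInv

open scoped Pointwise

variable {G A : Type*} [Group G] [Finite G] [Group A] [Finite A]

/-- Invariance of a subgroup under the action. -/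
def Inv (φ : A →* MulAut G) (X : Subgroup G) : Prop := ∀ a : A, ∀ x ∈ X, φ a x ∈ X

omit [Finite G] [Finite A] in
theorem Inv.mem_iff {φ : A →* MulAut G} {X : Subgroup G} (h : Inv φ X) (a : A) {x : G} : φ a x ∈ X ↔ x ∈ X :=
  ⟨fun hx => by simpa using h a⁻¹ _ hx, h a x⟩

omit [Finite G] [Finite A] in
theorem Inv.map_eq {φ : A →* MulAut G} {X : Subgroup G} (h : Inv φ X) (a : A) :
    X.map (φ a).toMonoidHom = X := by
  ext x
  rw [Subgroup.mem_map_equiv, ← h.mem_iff a, MulEquiv.apply_symm_apply]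

omit [Finite G] [Finite A] in
theorem Inv.inf {φ : A →* MulAut G} {X Y : Subgroup G} (h : Inv φ X) (h' : Inv φ Y) : Inv φ (X ⊓ Y) :=
  fun a x hx => ⟨h a x hx.1, h' a x hx.2⟩

omit [Finite G] [Finite A] in
theorem Inv.centralizer {φ : A →* MulAut G} {X : Subgroup G} (h : Inv φ X) :
    Inv φ (Subgroup.centralizer (X : Set G)) := fun a x hx => Subgroup.mem_centralizer_iff.2 fun y hy => by
  have h1 : (φ a).symm y ∈ X := (h.mem_iff a).1 (by rwa [MulEquiv.apply_symm_apply])
  have h2 := congrArg (φ a) (Subgroup.mem_centralizer_iff.1 hx _ h1)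
  rwa [map_mul, map_mul, MulEquiv.apply_symm_apply] at h2

omit [Finite G] [Finite A] in
theorem Inv.zc {φ : A →* MulAut G} {T : Subgroup G} (h : Inv φ T) : Inv φ (Zc T) := h.inf h.centralizer

omit [Finite G] [Finite A] in
theorem Inv.normalizer {φ : A →* MulAut G} {X : Subgroup G} (h : Inv φ X) :
    Inv φ (Subgroup.normalizer (X : Set G)) := fun a g hg => by
  rw [Subgroup.mem_normalizer_iff] at hg ⊢
  intro x
  rw [← h.mem_iff a⁻¹, hg, ← h.mem_iff a⁻¹ (x := φ a g * x * (φ a g)⁻¹)]
  simp [map_mul]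

omit [Finite G] in
theorem map_zc (U : Subgroup G) (e : MulAut G) : Zc (U.map e.toMonoidHom) = (Zc U).map e.toMonoidHom := by
  ext x
  simp only [mem_Zc, Subgroup.mem_map_equiv]
  refine and_congr_right fun _ => ⟨fun h s hs => ?_, fun h s hs => ?_⟩
  · have := congrArg e.symm (h (e s) (by rwa [MulEquiv.symm_apply_apply]))
    rwa [map_mul, map_mul, MulEquiv.symm_apply_apply] at this
  · have := congrArg e (h (e.symm s) hs)
    rwa [map_mul, map_mul, MulEquiv.apply_symm_apply, MulEquiv.apply_symm_apply] at this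

theorem Rad.map {T U : Subgroup G} (hU : Rad T U) (e : MulAut G) (hT : T.map e.toMonoidHom = T) :
    Rad T (U.map e.toMonoidHom) := by
  have hTe : ∀ x, x ∈ T ↔ e.symm x ∈ T := fun x => by
    rw [← Subgroup.mem_map_equiv]; exact (SetLike.ext_iff.1 hT x).symm
  refine ⟨?_, ?_, ?_, ?_⟩
  · have h := Subgroup.map_mono (f := e.toMonoidHom) hU.zle
    rwa [← map_zc, hT] at h
  · exact (Subgroup.map_mono hU.le).trans hT.le
  · intro h
    refine hU.bad fun g hg => ?_
    have hge : e g ∈ Subgroup.normalizer ((U.map e.toMonoidHom : Subgroup G) : Set G) := by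
      rw [Subgroup.mem_normalizer_iff]
      intro x
      rw [Subgroup.mem_map_equiv, Subgroup.mem_map_equiv, map_mul, map_mul, map_inv, MulEquiv.symm_apply_apply]
      exact Subgroup.mem_normalizer_iff.1 hg _
    simpa using (hTe _).1 (h hge)
  · intro s hs r hr hsU hrU
    rw [Subgroup.mem_map_equiv] at hsU hrU ⊢
    rw [map_mul, map_inv]
    exact hU.two _ ((hTe s).1 hs) _ ((hTe r).1 hr) hsU hrU

/-- Every subgroup between the centre of `T` and `T` has normalizer in `T`. -/
theorem normalizer_le (φ : A →* MulAut G) (hA : Odd (Nat.card A)) {T : Subgroup G} (L : Loc T)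
    (hTinv : Inv φ T) (hZne : Zc T ≠ ⊥)
    (hN : ∀ X : Subgroup G, Inv φ X → X ≠ ⊥ → X ≤ T → T ≤ Subgroup.normalizer (X : Set G) →
      Subgroup.normalizer (X : Set G) ≤ T)
    {P : Subgroup G} (hZP : Zc T ≤ P) (hPT : P ≤ T) : Subgroup.normalizer (P : Set G) ≤ T := by
  classical
  by_contra hbad
  obtain ⟨U, hU⟩ := L.exists_rad hZP hPT hbad
  letI : MulAction A (Subgroup G) := MulAction.compHom (Subgroup G) φ
  have hsmul : ∀ (a : A) (X : Subgroup G), a • X = X.map (φ a).toMonoidHom := fun _ _ => rfl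
  set O := MulAction.orbit A U with hO
  have hrad : ∀ X ∈ O, Rad T X := by
    rintro _ ⟨a, rfl⟩
    show Rad T (a • U)
    rw [hsmul]
    exact hU.map _ (hTinv.map_eq a)
  have hex : ∀ X ∈ O, ∃ Y ∈ O, ¬ Zc Y ≤ X := by
    intro X hX
    by_contra hno
    push Not at hno
    set W := ⨆ Y : O, Zc (Y : Subgroup G) with hW
    have hWinv : Inv φ W := by
      intro a x hx
      have h1 : W.map (φ a).toMonoidHom ≤ W := by
        rw [hW, Subgroup.map_iSup]
        refine iSup_le fun Y => ?_
        rw [← map_zc, ← hsmul]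
        exact le_iSup (fun Y : O => Zc (Y : Subgroup G)) ⟨a • (Y : Subgroup G),
          MulAction.mem_orbit_of_mem_orbit a Y.2⟩
      exact h1 ⟨x, hx, rfl⟩
    have hWX : W ≤ X := iSup_le fun Y => hno Y Y.2
    have hVW : Zc X ≤ W := le_iSup (fun Y : O => Zc (Y : Subgroup G)) ⟨X, hX⟩
    have hZW : Zc T ≤ W := (Rad.zc_le L (hrad X hX)).trans hVW
    have hWT : W ≤ T := hWX.trans (hrad X hX).le
    obtain ⟨g, hg, hgT, hg'⟩ := Rad.exists_outer L (hrad X hX)
    refine hgT (hN W hWinv (fun h => hZne (le_bot_iff.1 (h ▸ hZW))) hWT (L.le_normalizer hZW hWT)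
      (mem_normalizer_of_conj_mem fun x hx => ?_))
    simpa using mul_mem (hVW (hg' x (hWX hx))) hx
  choose! σ hσ hσ' using hex
  have hσσ : ∀ X ∈ O, σ (σ X) = X := fun X hX => by
    refine nbr_unique L (hrad _ (hσ X hX)) (hrad _ (hσ _ (hσ X hX))) (hrad X hX) (hσ' _ (hσ X hX)) ?_
    exact fun h => hσ' X hX (Rad.symm_le L (hrad _ (hσ X hX)) (hrad X hX) h)
  have hσne : ∀ X ∈ O, σ X ≠ X := fun X hX h =>
    hσ' X hX (by rw [h]; exact fun x hx => (mem_Zc.1 hx).1)
  letI : Fintype O := Fintype.ofFinite O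
  have heven : (Fintype.card O : ZMod 2) = 0 := by
    have h := Finset.sum_involution (s := (Finset.univ : Finset O)) (f := fun _ => (1 : ZMod 2))
      (fun X _ => (⟨σ X, hσ X X.2⟩ : O)) (fun _ _ => by decide)
      (fun X _ _ h => hσne X X.2 (congrArg Subtype.val h)) (fun _ _ => Finset.mem_univ _)
      (fun X _ => Subtype.ext (hσσ X X.2))
    simpa using h
  letI : Fintype A := Fintype.ofFinite A
  have hdvd := Dvd.intro _ (MulAction.card_orbit_mul_card_stabilizer_eq_card_group A U)
  rw [← Nat.card_eq_fintype_card (α := A)] at hdvd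
  rw [ZMod.natCast_eq_zero_iff_even] at heven
  have hodd : Odd (Fintype.card O) := Odd.of_dvd_nat hA hdvd
  exact (Nat.not_even_iff_odd.2 hodd) heven

end Cfsg.Agent.NilMaxInv
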