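import Cfsg.Agent.Lib.NilMaxInv.Main

/-!
The induction and the end of the proof: the kernel of the normal complements contains an invariant Sylow
2-subgroup normalized by `M`.
-/

set_option autoImplicit false
set_option linter.unusedSectionVars false
set_option linter.style.haveILetI false

namespace Cfsg.Agent.NilMaxInv

open Cfsg Cfsg.Agent
open scoped commutatorElement

universe u v

variable {G : Type u} {A : Type v} [Group G] [Finite G] [Group A] [Finite A] {φ : A →* MulAut G} {M : Subgroup G}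

/-- An invariant normal subgroup of even order and order prime to an odd `M` forces solvability. -/
theorem solvable_of_kernel (hA : Odd (Nat.card A)) (hcop : (Nat.card A).Coprime (Nat.card G)) (hm : IsMaxInv φ M)
    (hnil : Group.IsNilpotent M) (hM : Odd (Nat.card M)) {K : Subgroup G} (hKn : K.Normal) (hKinv : Inv φ K)
    (hMK : (Nat.card M).Coprime (Nat.card K)) (h2K : 2 ∣ Nat.card K) : Group.IsSolvable G := by
  haveI := hnil
  haveI : Fact (Nat.Prime 2) := ⟨Nat.prime_two⟩
  haveI : Finite (G ⋊[φ] A) := Finite.of_equiv _ SemidirectProduct.equivProd.symm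
  let B : Subgroup (G ⋊[φ] A) :=
    { carrier := {x | x.left ∈ M}
      one_mem' := by simp
      mul_mem' := fun {x y} hx hy => by
        simp only [Set.mem_ofPred_eq, SemidirectProduct.mul_left]
        exact mul_mem hx (hm.2.1 _ _ hy)
      inv_mem' := fun {x} hx => by
        simp only [Set.mem_ofPred_eq, SemidirectProduct.inv_left]
        exact hm.2.1 _ _ (inv_mem hx) }
  have hBcard : Nat.card B = Nat.card M * Nat.card A := by
    rw [← Nat.card_prod]
    exact Nat.card_congr
      { toFun := fun x => (⟨x.1.left, x.2⟩, x.1.right)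
        invFun := fun y => ⟨⟨y.1.1, y.2⟩, y.1.2⟩
        left_inv := fun x => rfl
        right_inv := fun y => rfl }
  set K' := K.map (SemidirectProduct.inl : G →* G ⋊[φ] A) with hK'
  have hK'card : Nat.card K' = Nat.card K := Subgroup.card_map_of_injective SemidirectProduct.inl_injective
  have hBK : B ≤ Subgroup.normalizer (K' : Set (G ⋊[φ] A)) := fun x _ => mem_normalizer_of_conj_mem fun y hy => by
    obtain ⟨k, hk, rfl⟩ := hy
    refine ⟨x.left * φ x.right k * x.left⁻¹, hKn.conj_mem _ (hKinv _ _ hk) _, ?_⟩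
    refine SemidirectProduct.ext ?_ ?_ <;>
      simp [SemidirectProduct.mul_left, SemidirectProduct.inv_left, SemidirectProduct.mul_right]
  have hcopB : (Nat.card B).Coprime (Nat.card K') := by
    rw [hBcard, hK'card]
    exact Nat.Coprime.mul_left hMK (hcop.coprime_dvd_right K.card_subgroup_dvd_card)
  have hBsol : Group.IsSolvable B := OddChar.oddSolvable B (by rw [hBcard]; exact hM.mul hA)
  obtain ⟨P, hP⟩ := CoprimeAct.exists_invariant_sylow hBK hcopB (Or.inl hBsol) 2
  set P' := (P : Subgroup K').map K'.subtype with hP'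
  set Q := P'.comap (SemidirectProduct.inl : G →* G ⋊[φ] A) with hQ
  have hQp : IsPGroup 2 Q :=
    (P.isPGroup'.map K'.subtype).comap_of_injective _ SemidirectProduct.inl_injective
  have hQne : Q ≠ ⊥ := by
    intro h
    refine P.ne_bot_of_dvd_card (hK'card ▸ h2K) ((Subgroup.eq_bot_iff_forall _).2 fun y hy => ?_)
    obtain ⟨k, hk, hke⟩ := y.2
    have hkQ : k ∈ Q := ⟨y, hy, hke.symm⟩
    rw [h, Subgroup.mem_bot] at hkQ
    exact Subtype.ext (by rw [Subgroup.coe_one, ← hke, hkQ, map_one])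
  have hQM : ¬ Q ≤ M := fun h => hQne (Subgroup.card_eq_one.1 (Nat.eq_one_of_dvd_coprimes
    (hQp.exists_card_eq.elim fun n hn => hn ▸ (Nat.coprime_two_left.2 hM).pow_left n)
    dvd_rfl (Subgroup.card_dvd_of_le h)))
  have hnorm : ∀ b ∈ B, ∀ x ∈ Q, b * SemidirectProduct.inl x * b⁻¹ ∈ P' := fun b hb x hx =>
    (Subgroup.mem_normalizer_iff.1 (hP hb) _).1 hx
  have hQinv : Inv φ Q := fun a x hx => by
    have h := hnorm (SemidirectProduct.inr a) (by show (SemidirectProduct.inr a : G ⋊[φ] A).left ∈ M; simp) x hx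
    rwa [← map_inv, ← SemidirectProduct.inl_aut] at h
  have hMQ : M ≤ Subgroup.normalizer (Q : Set G) := fun m hm' => mem_normalizer_of_conj_mem fun x hx => by
    have h := hnorm (SemidirectProduct.inl m) (by show (SemidirectProduct.inl m : G ⋊[φ] A).left ∈ M; simpa) x hx
    rwa [← map_mul, ← map_inv, ← map_mul] at h
  by_cases hN : Subgroup.normalizer (Q : Set G) = ⊤
  swap
  · exact absurd (Subgroup.le_normalizer.trans (hm.2.2 _ hMQ hN hQinv.normalizer).le) hQM
  haveI hQn : Q.Normal := Subgroup.normalizer_eq_top_iff.1 hN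
  have htop : Q ⊔ M = ⊤ := by
    by_contra h
    refine hQM (le_sup_left.trans (hm.2.2 (Q ⊔ M) le_sup_right h fun a x hx => ?_).le)
    have h1 : (Q ⊔ M).map (φ a).toMonoidHom = Q ⊔ M := by
      rw [Subgroup.map_sup, hQinv.map_eq, hm.2.1.map_eq]
    rw [← h1]
    exact ⟨x, hx, rfl⟩
  haveI : Group.IsNilpotent Q := hQp.isNilpotent
  haveI : Group.IsSolvable (G ⧸ Q) := by
    refine Group.isSolvable_of_surjective (f := (QuotientGroup.mk' Q).comp M.subtype) fun y => ?_
    obtain ⟨g, rfl⟩ := QuotientGroup.mk'_surjective Q y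
    obtain ⟨k, hk, m, hm', rfl⟩ := Subgroup.mem_sup_of_normal_left.1 (htop.ge (Subgroup.mem_top g))
    refine ⟨⟨m, hm'⟩, ?_⟩
    show (m : G ⧸ Q) = ((k * m : G) : G ⧸ Q)
    rw [QuotientGroup.mk_mul, (QuotientGroup.eq_one_iff k).2 hk, one_mul]
  exact Group.isSolvable_of_ker_le_range Q.subtype (QuotientGroup.mk' Q)
    (by rw [QuotientGroup.ker_mk', Subgroup.range_subtype])

theorem inv_pResidual (p : ℕ) : Inv φ (Cfsg.pResidual p G) := by
  intro a x hx
  have h : (Cfsg.pResidual p G).map (φ a).toMonoidHom ≤ Cfsg.pResidual p G := by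
    rw [Cfsg.pResidual, MonoidHom.map_closure]
    refine Subgroup.closure_mono ?_
    rintro _ ⟨g, hg, rfl⟩
    show (orderOf (φ a g)).Coprime p
    rw [MulEquiv.orderOf_eq]
    exact hg
  exact h ⟨x, hx, rfl⟩

/-- The core-free case. -/
theorem solvable_of_coreFree (hcop : (Nat.card A).Coprime (Nat.card G)) (hm : IsMaxInv φ M)
    (hnil : Group.IsNilpotent M) (hc : CoreFree φ M)
    (hcl : ∀ S : Sylow 2 M, ∀ a ∈ S, ∀ b ∈ S, ∀ c ∈ S, ⁅⁅a, b⁆, c⁆ = 1) : Group.IsSolvable G := by
  classical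
  haveI : Fact (Nat.Prime 2) := ⟨Nat.prime_two⟩
  rcases Nat.even_or_odd (Nat.card G) with hGe | hGo
  swap
  · exact OddChar.oddSolvable G hGo
  have hA : Odd (Nat.card A) := Nat.coprime_two_left.1 (hcop.coprime_dvd_right hGe.two_dvd).symm
  rcases Nat.even_or_odd (Nat.card M) with hMe | hMo
  · have hnpc := npc_two hA hm hnil hc hMe.two_dvd hcl
    haveI : Group.IsSolvable ↥(Cfsg.pResidual 2 G) := OddChar.oddSolvable _
      (Nat.coprime_two_left.1 (PBasic.hasNormalPComplement_iff_pResidual.1 hnpc).symm)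
    haveI : Group.IsNilpotent (G ⧸ Cfsg.pResidual 2 G) := (PBasic.quotient_pResidual_isPGroup 2 G).isNilpotent
    exact Group.isSolvable_of_ker_le_range (Cfsg.pResidual 2 G).subtype (QuotientGroup.mk' (Cfsg.pResidual 2 G))
      (by rw [QuotientGroup.ker_mk', Subgroup.range_subtype])
  let K : Subgroup G := ⨅ p : {p : Nat.Primes // (p : ℕ) ∣ Nat.card M}, Cfsg.pResidual ((p : Nat.Primes) : ℕ) G
  haveI hKn : K.Normal := Subgroup.normal_iInf_normal fun p => inferInstance
  have hle : ∀ p : ℕ, ∀ (hp : p.Prime) (hpM : p ∣ Nat.card M), K ≤ Cfsg.pResidual p G := fun p hp hpM =>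
    iInf_le (fun p : {p : Nat.Primes // (p : ℕ) ∣ Nat.card M} => Cfsg.pResidual ((p : Nat.Primes) : ℕ) G) ⟨⟨p, hp⟩, hpM⟩
  have hne : ∀ p : ℕ, p ∣ Nat.card M → p ≠ 2 := fun p hp h =>
    Nat.not_even_iff_odd.2 hMo (even_iff_two_dvd.2 (h ▸ hp))
  have hcopK : (Nat.card M).Coprime (Nat.card K) := by
    refine Nat.coprime_of_dvd fun q hq hqM hqK => ?_
    haveI := Fact.mk hq
    have h1 := PBasic.hasNormalPComplement_iff_pResidual.1 (npc_odd hm hnil hc (hne q hqM) hqM)
    exact hq.not_dvd_one (h1 ▸ Nat.dvd_gcd (hqK.trans (Subgroup.card_dvd_of_le (hle q hq hqM))) dvd_rfl)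
  have hKinv : Inv φ K := fun a x hx => Subgroup.mem_iInf.2 fun p => inv_pResidual _ a x (Subgroup.mem_iInf.1 hx p)
  refine solvable_of_kernel hA hcop hm hnil hMo hKn hKinv hcopK ?_
  obtain ⟨z, hz⟩ := exists_prime_orderOf_dvd_card' (G := G) 2 hGe.two_dvd
  have hzK : z ∈ K := Subgroup.mem_iInf.2 fun p => Subgroup.subset_closure (by
    show (orderOf z).Coprime _
    rw [hz]
    exact (Nat.coprime_primes Nat.prime_two p.1.2).2 (hne _ p.2).symm)
  have h := Subgroup.orderOf_dvd_natCard K hzK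
  rwa [hz] at h

theorem solvable (φ : A →* MulAut G) (hcop : (Nat.card A).Coprime (Nat.card G)) (M : Subgroup G)
    (hm : IsMaxInv φ M) (hnil : Group.IsNilpotent M)
    (hcl : ∀ S : Sylow 2 M, ∀ a ∈ S, ∀ b ∈ S, ∀ c ∈ S, ⁅⁅a, b⁆, c⁆ = 1) : Group.IsSolvable G := by
  suffices key : ∀ (n : ℕ) (G : Type u) [Group G] [Finite G] (φ : A →* MulAut G) (M : Subgroup G),
      Nat.card G = n → (Nat.card A).Coprime (Nat.card G) → IsMaxInv φ M → Group.IsNilpotent M →
      (∀ S : Sylow 2 M, ∀ a ∈ S, ∀ b ∈ S, ∀ c ∈ S, ⁅⁅a, b⁆, c⁆ = 1) → Group.IsSolvable G from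
    key _ G φ M rfl hcop hm hnil hcl
  intro n
  induction n using Nat.strong_induction_on with
  | _ n ih =>
  intro G _ _ φ M hn hcop hm hnil hcl
  haveI : Fact (Nat.Prime 2) := ⟨Nat.prime_two⟩
  by_cases hc : CoreFree φ M
  · exact solvable_of_coreFree hcop hm hnil hc hcl
  rw [CoreFree] at hc
  push Not at hc
  obtain ⟨X, hXn, hXinv, hXM, hX⟩ := hc
  haveI := hXn
  haveI := hnil
  set π := QuotientGroup.mk' X
  have hsurj : Function.Surjective π := QuotientGroup.mk'_surjective X
  have hcomap : (M.map π).comap π = M := Subgroup.comap_map_eq_self (by rwa [QuotientGroup.ker_mk'])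
  let φ' : A →* MulAut (G ⧸ X) :=
    { toFun := fun a => QuotientGroup.congr X X (φ a) (hXinv.map_eq a)
      map_one' := MulEquiv.ext fun y => by
        induction y using QuotientGroup.induction_on with
        | H g => simp
      map_mul' := fun a b => MulEquiv.ext fun y => by
        induction y using QuotientGroup.induction_on with
        | H g =>
          show ((φ (a * b) g : G) : G ⧸ X) = ((φ a (φ b g) : G) : G ⧸ X)
          rw [map_mul]
          rfl }
  have hφ' : ∀ a g, φ' a (π g) = π (φ a g) := fun a g => rfl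
  have hm' : IsMaxInv φ' (M.map π) := by
    refine ⟨fun h => hm.1 (by rw [← hcomap, h, Subgroup.comap_top]), ?_, fun H hMH hH hHinv => ?_⟩
    · rintro a _ ⟨g, hg, rfl⟩
      exact ⟨φ a g, hm.2.1 a g hg, (hφ' a g).symm⟩
    · have h1 : H.comap π = M := by
        refine hm.2.2 _ (Subgroup.map_le_iff_le_comap.1 hMH) (fun h => hH ?_) fun a g hg => ?_
        · rw [← Subgroup.map_comap_eq_self_of_surjective hsurj H, h, Subgroup.map_top_of_surjective _ hsurj]
        · rw [Subgroup.mem_comap, ← hφ']; exact hHinv a _ hg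
      rw [← h1, Subgroup.map_comap_eq_self_of_surjective hsurj]
  have hnil' : Group.IsNilpotent (M.map π) :=
    Group.nilpotent_of_surjective (π.subgroupMap M) (MonoidHom.subgroupMap_surjective _ _)
  have hcl' : ∀ S : Sylow 2 (M.map π), ∀ a ∈ S, ∀ b ∈ S, ∀ c ∈ S, ⁅⁅a, b⁆, c⁆ = 1 := by
    obtain ⟨T⟩ : Nonempty (Sylow 2 M) := inferInstance
    intro S
    haveI := hnil'
    haveI := Sylow.unique_of_normal S inferInstance
    rw [Subsingleton.elim S (T.mapSurjective (MonoidHom.subgroupMap_surjective π M))]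
    rintro _ ⟨a, ha, rfl⟩ _ ⟨b, hb, rfl⟩ _ ⟨c, hc, rfl⟩
    rw [← map_commutatorElement, ← map_commutatorElement, hcl T a ha b hb c hc, map_one]
  have hlt : Nat.card (G ⧸ X) < n := by
    rw [← hn, Subgroup.card_eq_card_quotient_mul_card_subgroup X]
    exact lt_mul_of_one_lt_right Nat.card_pos ((Subgroup.one_lt_card_iff_ne_bot X).2 hX)
  haveI : Group.IsSolvable (G ⧸ X) := ih _ hlt (G ⧸ X) φ' (M.map π) rfl
    (hcop.coprime_dvd_right (Subgroup.card_quotient_dvd_card X)) hm' hnil' hcl'
  haveI : Group.IsSolvable X := SolvBasic.isSolvable_of_le hXM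
  exact Group.isSolvable_of_ker_le_range X.subtype π (by rw [QuotientGroup.ker_mk', Subgroup.range_subtype])

end Cfsg.Agent.NilMaxInv
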